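import Mathlib.RingTheory.Flat.Tensor
import Mathlib.LinearAlgebra.TensorProduct.Quotient
import Mathlib.RingTheory.Localization.AtPrime.Basic
import Mathlib.RingTheory.KrullDimension.Zero
import Mathlib.RingTheory.Etale.Weakly
import Mathlib.Tactic.Algebraize
import Mathlib.RingTheory.LocalProperties.Reduced
import Mathlib.RingTheory.RingHom.Flat
import Mathlib.RingTheory.LocalRing.ResidueField.Ideal

/-!
# Absolutely flat rings
-/

universe u

open TensorProduct

namespace Groth.Agent.AbsFlat

variable {A : Type u} [CommRing A]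

/-- Von Neumann regularity. -/
def Regular (A : Type u) [CommRing A] : Prop := ∀ a : A, ∃ x : A, a * a * x = a

theorem Regular.flat (h : Regular A) (M : Type u) [AddCommGroup M] [Module A M] :
    Module.Flat A M := by
  refine Module.Flat.iff_rTensor_injective'.mpr fun I =>
    (injective_iff_map_eq_zero _).mpr fun z hz => ?_
  have key : ∀ z : I ⊗[A] M, ∃ (e : I) (n : M), (e : A) * e = e ∧
      z = e ⊗ₜ[A] n ∧ (e : A) • n = n := by
    intro z
    induction z with
    | zero => exact ⟨0, 0, by simp, by simp, by simp⟩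
    | tmul a m =>
      obtain ⟨x, hx⟩ := h a
      refine ⟨x • a, (a : A) • m, ?_, ?_, ?_⟩
      · show x * a * (x * a) = x * a
        linear_combination x * hx
      · rw [TensorProduct.tmul_smul, TensorProduct.smul_tmul']
        congr 1
        exact Subtype.ext (show (a : A) = a * (x * a) by linear_combination -hx)
      · rw [← mul_smul]
        congr 1
        show x * a * a = a
        linear_combination hx
    | add z₁ z₂ h₁ h₂ =>
      obtain ⟨e₁, n₁, i₁, rfl, f₁⟩ := h₁
      obtain ⟨e₂, n₂, i₂, rfl, f₂⟩ := h₂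
      let e : I := e₁ + e₂ - (e₁ : A) • e₂
      have he : (e : A) = e₁ + e₂ - e₁ * e₂ := rfl
      have g₁ : (e : A) * e₁ = e₁ := by rw [he]; linear_combination (1 - (e₂ : A)) * i₁
      have g₂ : (e : A) * e₂ = e₂ := by rw [he]; linear_combination (1 - (e₁ : A)) * i₂
      refine ⟨e, n₁ + n₂, ?_, ?_, ?_⟩
      · calc (e : A) * e = e * e₁ + e * e₂ - (e * e₁) * e₂ := by rw [he]; ring
          _ = e := by rw [g₁, g₂, he]
      · have s₁ : e₁ ⊗ₜ[A] n₁ = e ⊗ₜ[A] n₁ := by
          conv_rhs => rw [← f₁, TensorProduct.tmul_smul, TensorProduct.smul_tmul']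
          congr 1
          exact Subtype.ext (show (e₁ : A) = e₁ * e by rw [mul_comm, g₁])
        have s₂ : e₂ ⊗ₜ[A] n₂ = e ⊗ₜ[A] n₂ := by
          conv_rhs => rw [← f₂, TensorProduct.tmul_smul, TensorProduct.smul_tmul']
          congr 1
          exact Subtype.ext (show (e₂ : A) = e₂ * e by rw [mul_comm, g₂])
        rw [tmul_add, s₁, s₂]
      · rw [smul_add]
        conv_lhs => rw [← f₁, ← f₂, ← mul_smul, ← mul_smul, g₁, g₂]
        rw [f₁, f₂]
  obtain ⟨e, n, -, rfl, hn⟩ := key z
  have h0 := congrArg (TensorProduct.lid A M) hz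
  rw [LinearMap.rTensor_tmul, TensorProduct.lid_tmul, map_zero] at h0
  rw [← hn, show ((e : A) • n) = 0 from h0, tmul_zero]

theorem regular_of_forall_flat
    (h : ∀ (M : Type u) [AddCommGroup M] [Module A M], Module.Flat A M) : Regular A := by
  intro a
  let I : Ideal A := Ideal.span {a}
  haveI := h (A ⧸ I)
  have h0 : I.subtype.rTensor (A ⧸ I) (⟨a, Ideal.mem_span_singleton_self a⟩ ⊗ₜ (1 : A ⧸ I)) = 0 := by
    rw [LinearMap.rTensor_tmul]
    refine (TensorProduct.lid A (A ⧸ I)).injective ?_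
    rw [TensorProduct.lid_tmul, map_zero, Algebra.smul_def, mul_one, Ideal.Quotient.algebraMap_eq,
      Ideal.Quotient.eq_zero_iff_mem]
    exact Ideal.mem_span_singleton_self a
  have h1 := (Module.Flat.rTensor_preserves_injective_linearMap I.subtype I.subtype_injective)
    (h0.trans (map_zero _).symm)
  have h2 := congrArg (TensorProduct.tensorQuotEquivQuotSMul I I) h1
  rw [map_zero, ← (Ideal.Quotient.mk I).map_one, tensorQuotEquivQuotSMul_tmul_mk, one_smul,
    Submodule.Quotient.mk_eq_zero, Submodule.ideal_span_singleton_smul,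
    Submodule.mem_smul_pointwise_iff_exists] at h2
  obtain ⟨⟨y, hy⟩, -, hy'⟩ := h2
  obtain ⟨x, rfl⟩ := Ideal.mem_span_singleton'.mp hy
  exact ⟨x, by
    have : a * (x * a) = a := congrArg Subtype.val hy'
    linear_combination this⟩

theorem Regular.isReduced (h : Regular A) : IsReduced A :=
  (isReduced_iff_pow_one_lt 2 one_lt_two).mpr fun a ha => by
    obtain ⟨x, hx⟩ := h a
    rw [← hx, ← pow_two, ha, zero_mul]

theorem Regular.isMaximal (h : Regular A) {p : Ideal A} [hp : p.IsPrime] : p.IsMaximal := by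
  refine Ideal.Quotient.maximal_of_isField _ ⟨⟨0, 1, zero_ne_one⟩, mul_comm, fun {a} ha => ?_⟩
  obtain ⟨a, rfl⟩ := Ideal.Quotient.mk_surjective a
  obtain ⟨x, hx⟩ := h a
  refine ⟨Ideal.Quotient.mk p x, ?_⟩
  rw [← map_mul, ← map_one (Ideal.Quotient.mk p), Ideal.Quotient.eq]
  refine (hp.mem_or_mem (x := a) ?_).resolve_left fun h => ha (Ideal.Quotient.eq_zero_iff_mem.mpr h)
  rw [show a * (a * x - 1) = 0 by linear_combination hx]
  exact p.zero_mem

theorem regular_of_isField_atPrime
    (h : ∀ (p : Ideal A) [p.IsPrime], IsField (Localization.AtPrime p)) : Regular A := by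
  intro a
  let T : Ideal A := Submodule.comap (LinearMap.mulRight A a) (Ideal.span {a * a})
  suffices T = ⊤ by
    have h1 : (1 : A) ∈ T := this ▸ Submodule.mem_top
    obtain ⟨x, hx⟩ := Ideal.mem_span_singleton'.mp (h1 : LinearMap.mulRight A a 1 ∈ _)
    exact ⟨x, by rw [mul_comm, hx]; exact one_mul a⟩
  by_contra hT
  obtain ⟨p, hp, hle⟩ := Ideal.exists_le_maximal T hT
  haveI := hp.isPrime
  rcases eq_or_ne (algebraMap A (Localization.AtPrime p) a) 0 with h0 | h0
  · obtain ⟨⟨s, hs⟩, hsa⟩ := (IsLocalization.map_eq_zero_iff p.primeCompl _ a).mp h0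
    exact hs (hle (show s * a ∈ Ideal.span {a * a} by rw [show s * a = 0 from hsa]; exact zero_mem _))
  · obtain ⟨b, hb⟩ := (h p).mul_inv_cancel h0
    obtain ⟨⟨c, ⟨s, hs⟩⟩, hc⟩ := IsLocalization.surj p.primeCompl b
    have : algebraMap A (Localization.AtPrime p) (a * c) = algebraMap A _ s := by
      rw [map_mul, ← hc, ← mul_assoc, hb, one_mul]
    obtain ⟨⟨t, ht⟩, htt⟩ := (IsLocalization.eq_iff_exists p.primeCompl _).mp this
    refine (hp.isPrime.mul_mem_iff_mem_or_mem.not.mpr (not_or.mpr ⟨ht, hs⟩)) (hle ?_)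
    show t * s * a ∈ Ideal.span {a * a}
    exact Ideal.mem_span_singleton'.mpr ⟨t * c, by
      have : t * (a * c) = t * s := htt
      linear_combination a * this⟩

theorem isField_atPrime_of_isReduced [IsReduced A] (h : ∀ p : Ideal A, p.IsPrime → p.IsMaximal)
    (p : Ideal A) [hp : p.IsPrime] : IsField (Localization.AtPrime p) := by
  haveI : IsReduced (Localization.AtPrime p) :=
    inferInstance
  haveI : Ring.KrullDimLE 0 A := Ring.krullDimLE_zero_iff.mpr h
  haveI : Ring.KrullDimLE 0 (Localization.AtPrime p) :=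
    Ring.krullDimLE_zero_iff.mpr fun q hq => by
      have h1 := h (q.comap (algebraMap A (Localization.AtPrime p))) (Ideal.IsPrime.comap _)
      have hle : q ≤ IsLocalRing.maximalIdeal _ := IsLocalRing.le_maximalIdeal hq.ne_top
      have h2 := (Ideal.comap_mono (f := algebraMap A (Localization.AtPrime p)) hle)
      have h3 := h1.eq_of_le (Ideal.IsPrime.ne_top inferInstance) h2
      have h4 : q = IsLocalRing.maximalIdeal _ := by
        rw [← IsLocalization.map_under p.primeCompl (Localization.AtPrime p) q,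
          show Ideal.under A q = _ from h3]
        exact IsLocalization.map_under p.primeCompl _ _
      rw [h4]; infer_instance
  exact Ring.KrullDimLE.isField_of_isReduced

/-- In an ideal `D` with flat quotient every finite subset is fixed by one element of `D`. -/
theorem exists_mul_eq_self {B2 : Type u} [CommRing B2] (D : Ideal B2) [Module.Flat B2 (B2 ⧸ D)]
    {d : B2} (hd : d ∈ D) : ∃ d' ∈ D, d' * d = d := by
  let I : Ideal B2 := Ideal.span {d}
  have h0 : I.subtype.rTensor (B2 ⧸ D) (⟨d, Ideal.mem_span_singleton_self d⟩ ⊗ₜ (1 : B2 ⧸ D)) = 0 := by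
    rw [LinearMap.rTensor_tmul]
    refine (TensorProduct.lid B2 (B2 ⧸ D)).injective ?_
    rw [TensorProduct.lid_tmul, map_zero, Algebra.smul_def, mul_one, Ideal.Quotient.algebraMap_eq,
      Ideal.Quotient.eq_zero_iff_mem]
    exact hd
  have h1 := (Module.Flat.rTensor_preserves_injective_linearMap I.subtype I.subtype_injective)
    (h0.trans (map_zero _).symm)
  have h2 := congrArg (TensorProduct.tensorQuotEquivQuotSMul I D) h1
  rw [map_zero, ← (Ideal.Quotient.mk D).map_one, tensorQuotEquivQuotSMul_tmul_mk, one_smul,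
    Submodule.Quotient.mk_eq_zero] at h2
  have key : ∀ x ∈ D • (⊤ : Submodule B2 I), ∃ d' ∈ D, d' * d = (x : B2) := by
    intro x hx
    refine Submodule.smul_induction_on hx (fun a ha y _ => ?_) fun x y hx hy => ?_
    · obtain ⟨c, hc⟩ := Ideal.mem_span_singleton'.mp y.2
      exact ⟨a * c, D.mul_mem_right _ ha, by rw [mul_assoc, hc]; rfl⟩
    · obtain ⟨u, hu, e⟩ := hx
      obtain ⟨v, hv, e'⟩ := hy
      exact ⟨u + v, D.add_mem hu hv, by rw [add_mul, e, e']; rfl⟩
  exact key _ h2

/-- Flatness over `A` gives flatness over `B` when `B ⊗ B → B` is flat. -/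
theorem flat_of_flat_lmul {B : Type u} [CommRing B] [Algebra A B]
    (h : (Algebra.TensorProduct.lmul' A (S := B)).Flat) (N : Type u) [AddCommGroup N] [Module B N]
    [Module A N] [IsScalarTower A B N] [Module.Flat A N] : Module.Flat B N := by
  let μ := Algebra.TensorProduct.lmul' A (S := B)
  let D : Ideal (B ⊗[A] B) := RingHom.ker μ.toRingHom
  have hflat : Module.Flat (B ⊗[A] B) ((B ⊗[A] B) ⧸ D) := by
    have hs : Function.Surjective μ.toRingHom := fun b => ⟨b ⊗ₜ 1, by simp [μ]⟩
    let e : (B ⊗[A] B ⧸ D) ≃+* B := RingHom.quotientKerEquivOfSurjective hs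
    have : (Ideal.Quotient.mk D) = e.symm.toRingHom.comp μ.toRingHom := RingHom.ext fun z =>
      e.eq_symm_apply.mpr rfl
    rw [← RingHom.flat_algebraMap_iff, Ideal.Quotient.algebraMap_eq, this]
    exact RingHom.Flat.comp h (RingHom.Flat.of_bijective e.symm.bijective)
  refine Module.Flat.iff_rTensor_injective'.mpr fun I => (injective_iff_map_eq_zero _).mpr ?_
  let Φ : B ⊗[A] B →ₐ[A] Module.End A (I ⊗[A] N) :=
    Module.endTensorEndAlgHom.comp
      (Algebra.TensorProduct.map (Algebra.lsmul A A I) (Algebra.lsmul A A N))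
  let Ψ : B ⊗[A] B →ₐ[A] Module.End A (B ⊗[A] N) :=
    Module.endTensorEndAlgHom.comp
      (Algebra.TensorProduct.map (Algebra.lsmul A A B) (Algebra.lsmul A A N))
  have hΦ : ∀ (b c : B) (x : I) (n : N), Φ (b ⊗ₜ c) (x ⊗ₜ n) = (b • x) ⊗ₜ[A] (c • n) :=
    fun _ _ _ _ => rfl
  have hΨ : ∀ (b c : B) (x : B) (n : N), Ψ (b ⊗ₜ c) (x ⊗ₜ n) = (b • x) ⊗ₜ[A] (c • n) :=
    fun _ _ _ _ => rfl
  let g : I ⊗[A] N →ₗ[A] B ⊗[A] N := (I.subtype.restrictScalars A).rTensor N
  have hg : Function.Injective g :=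
    Module.Flat.rTensor_preserves_injective_linearMap _ I.subtype_injective
  have hgc : ∀ (d : B ⊗[A] B) (z : I ⊗[A] N), g (Φ d z) = Ψ d (g z) := by
    intro d z
    induction d with
    | zero => simp
    | add a b ha hb => simp only [map_add, LinearMap.add_apply, ha, hb]
    | tmul b c =>
      induction z with
      | zero => simp
      | add x y hx hy => simp only [map_add, hx, hy]
      | tmul x n => rfl
  let πI : I ⊗[A] N →ₗ[B] I ⊗[B] N := TensorProduct.mapOfCompatibleSMul B A B I N
  let πB : B ⊗[A] N →ₗ[B] B ⊗[B] N := TensorProduct.mapOfCompatibleSMul B A B B N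
  have hπ : ∀ (d : B ⊗[A] B) (z : I ⊗[A] N), πI (Φ d z) = μ d • πI z := by
    intro d z
    induction d with
    | zero => simp
    | add a b ha hb => simp only [map_add, LinearMap.add_apply, ha, hb, add_smul]
    | tmul b c =>
      induction z with
      | zero => simp
      | add x y hx hy => simp only [map_add, hx, hy, smul_add]
      | tmul x n =>
        rw [hΦ]
        show (b • x) ⊗ₜ[B] (c • n) = μ (b ⊗ₜ c) • (x ⊗ₜ[B] n)
        rw [Algebra.TensorProduct.lmul'_apply_tmul, TensorProduct.tmul_smul, TensorProduct.smul_tmul',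
          TensorProduct.smul_tmul', ← mul_smul, mul_comm c b]
  intro z hz
  obtain ⟨z, rfl⟩ := TensorProduct.mapOfCompatibleSMul_surjective B A B I N z
  have hker : g z ∈ LinearMap.ker πB := by
    rw [LinearMap.mem_ker, ← hz]
    show πB (g z) = I.subtype.rTensor N (πI z)
    clear hz
    induction z with
    | zero => simp
    | tmul x n => rfl
    | add x y hx hy => simp only [map_add, hx, hy]
  have key : ∀ p ∈ LinearMap.ker πB, ∃ d ∈ D, Ψ d p = p := by
    intro p hp
    rw [show πB = TensorProduct.mapOfCompatibleSMul B A B B N from rfl] at hp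
    have hp' : p ∈ Submodule.span B {(b • m) ⊗ₜ[A] n - m ⊗ₜ[A] (b • n) | (b : B) (m : B) (n : N)} := by
      rw [← TensorProduct.AlgebraTensorModule.ker_mapOfCompatibleSMul]; exact hp
    induction hp' using Submodule.span_induction with
    | mem p hp' =>
      obtain ⟨b, m, n, rfl⟩ := hp'
      obtain ⟨d', hd', e⟩ := exists_mul_eq_self D (d := b ⊗ₜ[A] (1 : B) - (1 : B) ⊗ₜ[A] b)
        (by rw [RingHom.mem_ker, map_sub]; simp [μ])
      refine ⟨d', hd', ?_⟩
      have : (b • m) ⊗ₜ[A] n - m ⊗ₜ[A] (b • n) =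
          Ψ (b ⊗ₜ[A] (1 : B) - (1 : B) ⊗ₜ[A] b) (m ⊗ₜ[A] n) := by
        rw [map_sub, LinearMap.sub_apply, hΨ, hΨ, one_smul, one_smul]
      rw [this, ← Module.End.mul_apply, ← map_mul, e]
    | zero => exact ⟨0, zero_mem _, by simp⟩
    | add p q hp₁ hq₁ h₁ h₂ =>
      have hk : ∀ r ∈ Submodule.span B {(b • m) ⊗ₜ[A] n - m ⊗ₜ[A] (b • n) | (b : B) (m : B) (n : N)},
          r ∈ LinearMap.ker (TensorProduct.mapOfCompatibleSMul B A B B N) := fun r hr => by
        rw [← TensorProduct.AlgebraTensorModule.ker_mapOfCompatibleSMul] at hr; exact hr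
      obtain ⟨d₁, hd₁, e₁⟩ := h₁ (hk p hp₁)
      obtain ⟨d₂, hd₂, e₂⟩ := h₂ (hk q hq₁)
      refine ⟨d₁ + d₂ - d₁ * d₂, sub_mem (add_mem hd₁ hd₂) (D.mul_mem_left _ hd₂), ?_⟩
      have c₁ : Ψ (d₁ * d₂) p = Ψ d₂ p := by
        rw [mul_comm, map_mul, Module.End.mul_apply, e₁]
      have c₂ : Ψ (d₁ * d₂) q = Ψ d₁ q := by rw [map_mul, Module.End.mul_apply, e₂]
      simp only [map_sub, map_add, LinearMap.sub_apply, LinearMap.add_apply, c₁, c₂, e₁, e₂]
      abel
    | smul c p hp₁ h₁ =>
      have hk : p ∈ LinearMap.ker (TensorProduct.mapOfCompatibleSMul B A B B N) := by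
        rw [← TensorProduct.AlgebraTensorModule.ker_mapOfCompatibleSMul] at hp₁; exact hp₁
      obtain ⟨d, hd, e⟩ := h₁ hk
      refine ⟨d, hd, ?_⟩
      have hc : c • p = Ψ (c ⊗ₜ 1) p := by
        clear e hp₁ hk h₁ hp hd
        induction p with
        | zero => simp
        | tmul x n => rw [hΨ, one_smul, TensorProduct.smul_tmul']
        | add x y hx hy => simp only [smul_add, map_add, hx, hy]
      rw [hc, ← Module.End.mul_apply, ← map_mul, mul_comm, map_mul, Module.End.mul_apply, e]
  obtain ⟨d, hd, he⟩ := key _ hker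
  have : Φ d z = z := hg (by rw [hgc, he])
  show πI z = 0
  rw [← this, hπ, show μ d = 0 from hd, zero_smul]

/-- Flatness over a ring gives flatness over its quotients. -/
theorem flat_of_surjective {X Y : Type u} [CommRing X] [CommRing Y] [Algebra X Y]
    (hs : Function.Surjective (algebraMap X Y)) (M : Type u) [AddCommGroup M] [Module Y M]
    [Module X M] [IsScalarTower X Y M] [Module.Flat X M] : Module.Flat Y M := by
  refine flat_of_flat_lmul (A := X) (RingHom.Flat.of_bijective ⟨?_, fun b => ⟨b ⊗ₜ 1, by simp⟩⟩) M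
  have hsurj : Function.Surjective fun x : Y => x ⊗ₜ[X] (1 : Y) := fun z => by
    induction z with
    | zero => exact ⟨0, TensorProduct.zero_tmul Y 1⟩
    | tmul x y =>
      obtain ⟨r, rfl⟩ := hs y
      exact ⟨r • x, by rw [Algebra.algebraMap_eq_smul_one r, TensorProduct.tmul_smul,
        TensorProduct.smul_tmul']⟩
    | add x y hx hy =>
      obtain ⟨u, rfl⟩ := hx
      obtain ⟨v, rfl⟩ := hy
      exact ⟨u + v, TensorProduct.add_tmul u v 1⟩
  intro x y hxy
  obtain ⟨u, rfl⟩ := hsurj x
  obtain ⟨v, rfl⟩ := hsurj y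
  rw [show u = v by simpa using hxy]

theorem flat_ringHom_of_comp_surjective {X Y Z : Type u} [CommRing X] [CommRing Y] [CommRing Z]
    (q : X →+* Y) (g : Y →+* Z) (hq : Function.Surjective q) (h : (g.comp q).Flat) : g.Flat := by
  algebraize [q, g, g.comp q]
  exact flat_of_surjective (X := X) hq Z

end Groth.Agent.AbsFlat
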